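import Groth.Agent.Cyc.K923.RatFam
import Groth.Agent.IntMult.K304.P1Geo
import Groth.Prelude.Def_AlgGrp

/-!
# Group actions and curves in the group: rational equivalence of translates
-/

set_option autoImplicit false
universe u
open CategoryTheory CategoryTheory.Limits MonoidalCategory CartesianMonoidalCategory MonObj GrpObj
  AlgebraicGeometry

namespace K923.ActFam

open Groth.Agent Groth.Agent.CycB.P1Chart

section General

variable {S : Scheme.{u}} {G X : Over S} [GrpObj G] (a : AlgGrp.Action G X)

/-- The action on points. -/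
noncomputable def act' {T : Over S} (g : T ⟶ G) (x : T ⟶ X) : T ⟶ X := lift g x ≫ a.act

theorem comp_act' {T T' : Over S} (f : T' ⟶ T) (g : T ⟶ G) (x : T ⟶ X) :
    f ≫ act' a g x = act' a (f ≫ g) (f ≫ x) := by
  unfold act'
  rw [← Category.assoc, comp_lift]

theorem act'_one {T : Over S} (x : T ⟶ X) : act' a 1 x = x := by
  have h := congrArg (fun t => lift (toUnit T) x ≫ t) a.one_act
  unfold act'
  rw [Hom.one_def]
  have h2 : lift (toUnit T ≫ η[G]) x = lift (toUnit T) x ≫ (η[G] ▷ X) := by simp
  rw [h2, Category.assoc, h]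
  simp

theorem act'_mul {T : Over S} (g h : T ⟶ G) (x : T ⟶ X) :
    act' a (g * h) x = act' a g (act' a h x) := by
  have h1 := congrArg (fun t => lift (lift g h) x ≫ t) a.mul_act
  unfold act'
  rw [Hom.mul_def]
  have h2 : lift (lift g h ≫ μ[G]) x = lift (lift g h) x ≫ (μ[G] ▷ X) := by simp
  rw [h2, Category.assoc, h1]
  simp

theorem act'_inv_act' {T : Over S} (g : T ⟶ G) (x : T ⟶ X) :
    act' a g⁻¹ (act' a g x) = x := by
  rw [← act'_mul, inv_mul_cancel, act'_one]

theorem act'_act'_inv {T : Over S} (g : T ⟶ G) (x : T ⟶ X) :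
    act' a g (act' a g⁻¹ x) = x := by
  rw [← act'_mul, mul_inv_cancel, act'_one]

/-- The automorphism of `D ⊗ X` given by a `D`-point of `G`. -/
noncomputable def phi {D : Over S} (γ : D ⟶ G) : D ⊗ X ≅ D ⊗ X where
  hom := lift (fst D X) (act' a (fst D X ≫ γ) (snd D X))
  inv := lift (fst D X) (act' a (fst D X ≫ γ)⁻¹ (snd D X))
  hom_inv_id := by
    ext1
    · simp
    · rw [Category.assoc, lift_snd, comp_act', lift_snd, GrpObj.comp_inv, ← Category.assoc,
        lift_fst, act'_inv_act']
      simp
  inv_hom_id := by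
    ext1
    · simp
    · rw [Category.assoc, lift_snd, comp_act', lift_snd, ← Category.assoc,
        lift_fst, act'_act'_inv]
      simp

variable {Y : Over S} (i : Y ⟶ X) {D : Over S} (γ : D ⟶ G)

/-- The family of translates of `Y` over `D`. -/
noncomputable def fam : D ⊗ Y ⟶ D ⊗ X := (D ◁ i) ≫ (phi a γ).hom

theorem fam_fst : fam a i γ ≫ fst D X = fst D Y := by
  simp [fam, phi]

theorem fam_snd : fam a i γ ≫ snd D X = act' a (fst D Y ≫ γ) (snd D Y ≫ i) := by
  unfold fam phi
  simp only [Category.assoc, lift_snd]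
  rw [comp_act']
  simp

/-- The point of the family. -/
noncomputable def ptS (X : Over S) (d : 𝟙_ (Over S) ⟶ D) : X ⟶ D ⊗ X := lift (toUnit X ≫ d) (𝟙 X)

theorem ptS_fst (X : Over S) (d : 𝟙_ (Over S) ⟶ D) : ptS X d ≫ fst D X = toUnit X ≫ d :=
  lift_fst _ _

theorem ptS_snd (X : Over S) (d : 𝟙_ (Over S) ⟶ D) : ptS X d ≫ snd D X = 𝟙 X :=
  lift_snd _ _

theorem isPullback_ptS (d : 𝟙_ (Over S) ⟶ D) :
    IsPullback (ptS Y d) (act' a (toUnit Y ≫ d ≫ γ) i) (fam a i γ) (ptS X d) := by
  have w : ptS Y d ≫ fam a i γ = act' a (toUnit Y ≫ d ≫ γ) i ≫ ptS X d := by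
    ext1
    · rw [Category.assoc, fam_fst, ptS_fst, Category.assoc, ptS_fst, ← Category.assoc]
      congr 1
      exact toUnit_unique _ _
    · rw [Category.assoc, fam_snd, comp_act', Category.assoc, ptS_snd, Category.comp_id,
        ← Category.assoc, ptS_fst, ← Category.assoc, ptS_snd, Category.id_comp,
        Category.assoc]
  refine ⟨⟨w⟩, ⟨PullbackCone.IsLimit.mk w (fun s => s.fst ≫ snd D Y) ?_ ?_ ?_⟩⟩
  · intro s
    have h1 := congrArg (· ≫ fst D X) s.condition
    simp only [Category.assoc, fam_fst, ptS_fst] at h1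
    ext1
    · rw [Category.assoc, ptS_fst, h1, ← Category.assoc, ← Category.assoc]
      congr 1
      exact toUnit_unique _ _
    · rw [Category.assoc, ptS_snd, Category.comp_id]
  · intro s
    have h1 := congrArg (· ≫ fst D X) s.condition
    have h2 := congrArg (· ≫ snd D X) s.condition
    simp only [Category.assoc, fam_fst, ptS_fst] at h1
    simp only [Category.assoc, fam_snd, ptS_snd, Category.comp_id] at h2
    rw [comp_act', ← Category.assoc, h1] at h2
    rw [comp_act', ← h2]
    congr 1
    · rw [← Category.assoc, ← Category.assoc, ← Category.assoc]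
      congr 2
      exact toUnit_unique _ _
  · intro s m h1 h2
    rw [← h1, Category.assoc, ptS_snd, Category.comp_id]

end General

end K923.ActFam
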