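import Groth.Agent.Cyc.K923.ActFam
import Groth.Agent.CycB.SetupLft

/-!
# Group actions and curves in the group: rational equivalence of translates
-/

set_option autoImplicit false
universe u
open CategoryTheory CategoryTheory.Limits MonoidalCategory CartesianMonoidalCategory MonObj GrpObj
  AlgebraicGeometry

namespace K923.ActGeo

open Groth.Agent Groth.Agent.CycB.P1Chart K923.ActFam

theorem toP1_eq {X Y : Scheme.{u}} (f : X ⟶ Y) : P1.toP1 f = Dix.ProjProper.mapBase 1 f := by
  apply CycB.P1Chart.hom_ext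
  · rw [CycA.MovDom.toP1_toZ]
    exact (Dix.ProjProper.mapBase_toZ 1 f).symm
  · rw [CycA.MovDom.toP1_toBase, Dix.ProjProper.mapBase_toBase]

section

variable {S : Scheme.{u}} {D : Over S} (c : D.left ⟶ CohB1.ProjSpaceOver 1 S)
  (hc : c ≫ CohB1.ProjSpaceOver.toBase 1 S = D.hom)

theorem isPullback_prod (D T : Over S) : IsPullback (fst D T).left (snd D T).left D.hom T.hom :=
  IsPullback.of_hasPullback D.hom T.hom

/-- `D × T → P¹_T`. -/
noncomputable def oT (T : Over S) : (D ⊗ T).left ⟶ CohB1.ProjSpaceOver 1 T.left :=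
  CycB.P1Chart.lift ((fst D T).left ≫ c ≫ toZ S) (snd D T).left

theorem oT_toZ (T : Over S) : oT c T ≫ toZ T.left = (fst D T).left ≫ c ≫ toZ S := lift_toZ _ _

theorem oT_toBase (T : Over S) : oT c T ≫ CohB1.ProjSpaceOver.toBase 1 T.left = (snd D T).left :=
  lift_toBase _ _

include hc in
theorem isPullback_oT (T : Over S) :
    IsPullback (oT c T) (fst D T).left (P1.toP1 T.hom) c := by
  have hw : oT c T ≫ P1.toP1 T.hom = (fst D T).left ≫ c := by
    apply CycB.P1Chart.hom_ext
    · rw [Category.assoc, CycA.MovDom.toP1_toZ, oT_toZ, Category.assoc]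
    · rw [Category.assoc, CycA.MovDom.toP1_toBase, ← Category.assoc, oT_toBase, Category.assoc, hc]
      exact (isPullback_prod D T).w.symm
  have t : IsPullback (CohB1.ProjSpaceOver.toBase 1 T.left) (P1.toP1 T.hom) T.hom
      (CohB1.ProjSpaceOver.toBase 1 S) := by
    rw [toP1_eq]
    exact (Dix.ProjProper.isPullback_mapBase 1 T.hom).flip
  refine IsPullback.of_right ?_ hw t
  rw [oT_toBase, hc]
  exact (isPullback_prod D T).flip

include hc in
theorem isOpenImmersion_oT [IsOpenImmersion c] (T : Over S) : IsOpenImmersion (oT c T) :=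
  MorphismProperty.of_isPullback (P := @IsOpenImmersion) (isPullback_oT c hc T).flip inferInstance

variable {G X Y : Over S} [GrpObj G] (a : AlgGrp.Action G X) (i : Y ⟶ X) (γ : D ⟶ G)

theorem isClosedImmersion_fam [IsClosedImmersion i.left] : IsClosedImmersion (fam a i γ).left := by
  have h1 : IsPullback (D ◁ i) (snd D Y) (snd D X) i := by
    refine ⟨⟨by simp⟩, ⟨PullbackCone.IsLimit.mk _ (fun s => CartesianMonoidalCategory.lift
      (s.fst ≫ fst D X) s.snd) ?_ ?_ ?_⟩⟩
    · intro s
      ext1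
      · simp
      · simp [s.condition]
    · intro s
      simp
    · intro s m h1 h2
      ext1
      · rw [← h1]; simp
      · rw [← h2]; simp
  have h2 := h1.map (Over.forget S)
  have h3 : IsClosedImmersion (D ◁ i).left :=
    MorphismProperty.of_isPullback (P := @IsClosedImmersion) h2.flip
      (inferInstanceAs (IsClosedImmersion i.left))
  have h4 : (fam a i γ).left = (D ◁ i).left ≫ (phi a γ).hom.left := rfl
  have h5 : IsIso (phi a γ).hom.left := inferInstanceAs (IsIso ((Over.forget S).map (phi a γ).hom))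
  rw [h4]
  infer_instance

variable {c} in
theorem ptS_oT {d : 𝟙_ (Over S) ⟶ D} {n : Fin (1 + 1)} (hd : d.left ≫ c = P1.sect S n)
    (T : Over S) : (ptS T d).left ≫ oT c T = P1.sect T.left n := by
  apply CycB.P1Chart.hom_ext
  · have h1 : (ptS T d).left ≫ (fst D T).left = T.hom ≫ d.left := by
      rw [← Over.comp_left, ptS_fst, Over.comp_left]
      rfl
    rw [Category.assoc, oT_toZ, ← Category.assoc, h1, Category.assoc, ← Category.assoc d.left, hd,
      sect_eq, sect_eq, lift_toZ, lift_toZ, ← Category.assoc, ← Category.assoc, ← Category.assoc]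
    congr 2
    exact specULiftZIsTerminal.hom_ext _ _
  · have h1 : (ptS T d).left ≫ (snd D T).left = 𝟙 _ := by
      rw [← Over.comp_left, ptS_snd]
      rfl
    rw [Category.assoc, oT_toBase, h1, CycB.P1PtClosure.sect_toBase]

end

section Main

open Groth.Agent.CycB.RelDim

/-- Immersions over `S` preserve the dimension function. -/
theorem delta_eq {T T' S : Scheme.{u}} {f : T ⟶ S} {g : T' ⟶ S} (j : T ⟶ T') [IsPreimmersion j]
    (w : j ≫ g = f) {δT : T → ℤ} {δT' : T' → ℤ} {δS : S → ℤ} (h : Cyc.DeltaCompat f δT δS)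
    (h' : Cyc.DeltaCompat g δT' δS) (t : T) : δT t = δT' (j t) := by
  subst w
  obtain ⟨n, hn, e⟩ := deltaCompat_iff.1 h t
  obtain ⟨m, hm, e'⟩ := deltaCompat_iff.1 h' (j t)
  rw [rtd_comp, rtd_eq_zero_of_isPreimmersion j, add_zero, hm] at hn
  have h1 : m = n := by exact_mod_cast hn
  rw [e, e', h1, Scheme.Hom.comp_apply]

/-- Translation by a point. -/
noncomputable def tr {S : Scheme.{u}} {G X : Over S} [GrpObj G] (a : AlgGrp.Action G X)
    (g : 𝟙_ (Over S) ⟶ G) : X ⟶ X := act' a (toUnit X ≫ g) (𝟙 X)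

theorem comp_tr {S : Scheme.{u}} {G X : Over S} [GrpObj G] (a : AlgGrp.Action G X)
    (g : 𝟙_ (Over S) ⟶ G) {T : Over S} (x : T ⟶ X) : x ≫ tr a g = act' a (toUnit T ≫ g) x := by
  unfold tr
  rw [comp_act', Category.comp_id, ← Category.assoc]
  congr 2
  exact toUnit_unique _ _

theorem tr_tr {S : Scheme.{u}} {G X : Over S} [GrpObj G] (a : AlgGrp.Action G X)
    (g h : 𝟙_ (Over S) ⟶ G) : tr a h ≫ tr a g = tr a (g * h) := by
  rw [comp_tr]
  unfold tr
  rw [← act'_mul, ← MonObj.comp_mul]

theorem tr_one {S : Scheme.{u}} {G X : Over S} [GrpObj G] (a : AlgGrp.Action G X) :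
    tr a (1 : 𝟙_ (Over S) ⟶ G) = 𝟙 X := by
  unfold tr
  rw [MonObj.comp_one, act'_one]

/-- Translation as an isomorphism. -/
noncomputable def trIso {S : Scheme.{u}} {G X : Over S} [GrpObj G] (a : AlgGrp.Action G X)
    (g : 𝟙_ (Over S) ⟶ G) : X ≅ X where
  hom := tr a g
  inv := tr a g⁻¹
  hom_inv_id := by rw [tr_tr, inv_mul_cancel, tr_one]
  inv_hom_id := by rw [tr_tr, mul_inv_cancel, tr_one]

theorem delta_tr {S : Scheme.{u}} {G X : Over S} [GrpObj G] (a : AlgGrp.Action G X)
    (g : 𝟙_ (Over S) ⟶ G) {δ : X.left → ℤ} {δS : S → ℤ} (hδ : Cyc.DeltaCompat X.hom δ δS)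
    (x : X.left) : δ ((tr a g).left x) = δ x := by
  have h1 : IsIso (tr a g).left := inferInstanceAs (IsIso ((Over.forget S).map (trIso a g).hom))
  exact (delta_eq (tr a g).left (Over.w (tr a g)) hδ hδ x).symm

variable {k : Type u} [Field k] [IsAlgClosed k] {G X D : Over (Spec (CommRingCat.of k))} [GrpObj G]
  [IsIntegral X.left] [IsSeparated X.hom] [LocallyOfFiniteType X.hom] [QuasiCompact X.hom]
  (a : AlgGrp.Action G X) (c : D.left ⟶ CohB1.ProjSpaceOver 1 (Spec (CommRingCat.of k)))
  [IsOpenImmersion c] (hc : c ≫ CohB1.ProjSpaceOver.toBase 1 _ = D.hom)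
  (γ : D ⟶ G) (d : Fin (1 + 1) → (𝟙_ (Over (Spec (CommRingCat.of k))) ⟶ D))
  (hd : ∀ n, (d n).left ≫ c = P1.sect _ n)
  (hne : (d 0).left (IsLocalRing.closedPoint k) ≠ (d 1).left (IsLocalRing.closedPoint k))

include hc hd hne in
/-- Translates by points on an open part of a rational curve in the group. -/
theorem ratEquiv {δ : X.left → ℤ} (hX : Cyc.IsSetup X.left δ)
    (hδ : Cyc.DeltaCompat X.hom δ (fun _ => 0)) (ξ : X.left) (α β : AlgebraicCycle X.left ℤ)
    (hα : ⇑α = Set.indicator {(tr a (d 0 ≫ γ)).left ξ} 1)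
    (hβ : ⇑β = Set.indicator {(tr a (d 1 ≫ γ)).left ξ} 1) : Cyc.RatEquiv δ (δ ξ) α β := by
  let i₀ := CycB.PtClosure.ptClι ξ
  let Y : Over (Spec (CommRingCat.of k)) := Over.mk (i₀ ≫ X.hom)
  let i : Y ⟶ X := Over.homMk i₀
  have hYi : IsIntegral Y.left := inferInstanceAs (IsIntegral (CycB.PtClosure.ptCl ξ))
  have hi : IsClosedImmersion i.left := inferInstanceAs (IsClosedImmersion (CycB.PtClosure.ptClι ξ))
  have hgen : i.left (genericPoint Y.left) = ξ := CycB.PtClosure.ptClι_genericPoint ξ
  have hYs : IsSeparated Y.hom := inferInstanceAs (IsSeparated (i.left ≫ X.hom))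
  have hYl : LocallyOfFiniteType Y.hom := inferInstanceAs (LocallyOfFiniteType (i.left ≫ X.hom))
  have hYq : QuasiCompact Y.hom := inferInstanceAs (QuasiCompact (i.left ≫ X.hom))
  have hoX : IsOpenImmersion (oT c X) := isOpenImmersion_oT c hc X
  have hoY : IsOpenImmersion (oT c Y) := isOpenImmersion_oT c hc Y
  have hPY : IsIntegral (CohB1.ProjSpaceOver 1 Y.left) := K304.P1Geo.isIntegral_P1 Y.hom
  have hZne : Nonempty (D ⊗ Y).left := ⟨(ptS Y (d 0)).left (genericPoint Y.left)⟩
  have hZ : IsIntegral (D ⊗ Y).left := isIntegral_of_isOpenImmersion (oT c Y)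
  have hj : IsClosedImmersion (fam a i γ).left := isClosedImmersion_fam a i γ
  obtain ⟨δP, hP⟩ := CycB.SetupLft.exists_deltaCompat (CohB1.ProjSpaceOver.toBase 1 X.left) δ
  obtain ⟨δY, hδY⟩ := CycB.SetupLft.exists_deltaCompat Y.hom (fun _ => 0)
  obtain ⟨δPY, hδPY⟩ := CycB.SetupLft.exists_deltaCompat (CohB1.ProjSpaceOver.toBase 1 Y.left) δY
  have hlft : LocallyOfFiniteType (D ⊗ Y).hom := by
    rw [← Over.w (snd D Y), ← oT_toBase c]
    infer_instance
  obtain ⟨δZ, hδZ⟩ := CycB.SetupLft.exists_deltaCompat (D ⊗ Y).hom (fun _ => 0)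
  have e1 : δZ (genericPoint (D ⊗ Y).left) =
      δP (oT c X ((fam a i γ).left (genericPoint (D ⊗ Y).left))) := by
    have h1 : ((fam a i γ).left ≫ oT c X) ≫ CohB1.ProjSpaceOver.toBase 1 X.left ≫ X.hom =
        (D ⊗ Y).hom := by
      rw [Category.assoc, ← Category.assoc (oT c X), oT_toBase, ← Category.assoc, ← Over.comp_left]
      exact Over.w _
    have h2 := delta_eq ((fam a i γ).left ≫ oT c X) h1 hδZ (deltaCompat_comp hP hδ)
      (genericPoint (D ⊗ Y).left)
    rw [h2, Scheme.Hom.comp_apply]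
  have e2 : δZ (genericPoint (D ⊗ Y).left) = δPY (genericPoint (CohB1.ProjSpaceOver 1 Y.left)) := by
    have h1 : oT c Y ≫ CohB1.ProjSpaceOver.toBase 1 Y.left ≫ Y.hom = (D ⊗ Y).hom := by
      rw [← Category.assoc, oT_toBase]
      exact Over.w _
    have h2 := delta_eq (oT c Y) h1 hδZ (deltaCompat_comp hδPY hδY) (genericPoint (D ⊗ Y).left)
    rw [h2, genericPoint_eq_of_isOpenImmersion]
  have e3 : δY (genericPoint Y.left) = δ ξ := by
    rw [delta_eq i.left (Over.w i) hδY hδ, hgen]
  have hr : δP (oT c X ((fam a i γ).left (genericPoint (D ⊗ Y).left))) = δ ξ + 1 := by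
    rw [← e1, e2, K304.P1Geo.delta_genericPoint hδPY, e3]
  have hs : ∀ n, (ptS X (d n)).left ≫ oT c X = P1.sect X.left n := fun n => ptS_oT (hd n) X
  have hh : ∀ n, (act' a (toUnit Y ≫ d n ≫ γ) i).left (genericPoint Y.left) =
      (tr a (d n ≫ γ)).left ξ := by
    intro n
    rw [← comp_tr, Over.comp_left, Scheme.Hom.comp_apply, hgen]
  refine RatFam.ratEquiv_of_family hX hP (oT c X) (fam a i γ).left (δ ξ) hr
    (fun n => (ptS X (d n)).left) hs ?_ (fun _ => Y.left) (fun n => (ptS Y (d n)).left)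
    (fun n => (act' a (toUnit Y ≫ d n ≫ γ) i).left)
    (fun n => (isPullback_ptS a i γ (d n)).map (Over.forget _)) ?_ α β ?_ ?_
  · rintro n ⟨x, hx⟩
    have hsub : Subsingleton (Spec (CommRingCat.of k)) :=
      inferInstanceAs (Subsingleton (PrimeSpectrum k))
    have h1 := congrArg (P1.toP1 X.hom) hx
    have h2 : P1.toP1 X.hom (P1.sect X.left n x) = c ((d n).left (IsLocalRing.closedPoint k)) := by
      rw [← Scheme.Hom.comp_apply, ← Scheme.Hom.comp_apply, hd n]
      have h3 : P1.sect X.left n ≫ P1.toP1 X.hom = X.hom ≫ P1.sect _ n := by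
        apply CycB.P1Chart.hom_ext
        · rw [Category.assoc, CycA.MovDom.toP1_toZ, sect_eq, lift_toZ, Category.assoc, sect_eq,
            lift_toZ, ← Category.assoc, ← Category.assoc, ← Category.assoc]
          congr 2
          exact specULiftZIsTerminal.hom_ext _ _
        · rw [Category.assoc, CycA.MovDom.toP1_toBase, ← Category.assoc,
            CycB.P1PtClosure.sect_toBase, Category.assoc, CycB.P1PtClosure.sect_toBase,
            Category.id_comp, Category.comp_id]
      rw [h3, Scheme.Hom.comp_apply]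
      congr 1
      exact hsub.elim _ _
    have h4 : P1.toP1 X.hom (oT c X ((fam a i γ).left (genericPoint (D ⊗ Y).left))) =
        c ((fst D Y).left (genericPoint (D ⊗ Y).left)) := by
      rw [← Scheme.Hom.comp_apply, (isPullback_oT c hc X).w, Scheme.Hom.comp_apply,
        ← Scheme.Hom.comp_apply (fam a i γ).left, ← Over.comp_left, fam_fst]
    rw [h2, h4] at h1
    have h5 := c.isOpenEmbedding.injective h1
    have h6 : ∀ m, (d n).left (IsLocalRing.closedPoint k) =
        (d m).left (IsLocalRing.closedPoint k) := by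
      intro m
      have h7 := (genericPoint_specializes ((ptS Y (d m)).left (genericPoint Y.left))).map
        (fst D Y).left.continuous
      rw [← h5, ← Scheme.Hom.comp_apply (ptS Y (d m)).left, ← Over.comp_left, ptS_fst] at h7
      have h8 : (toUnit Y ≫ d m).left (genericPoint Y.left) =
          (d m).left (IsLocalRing.closedPoint k) := by
        rw [Over.comp_left, Scheme.Hom.comp_apply]
        congr 1
        exact hsub.elim _ _
      rw [h8] at h7
      have h9 := h7.map c.continuous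
      rw [← Scheme.Hom.comp_apply, hd n] at h9
      have h10 : IsClosed ({P1.sect (Spec (CommRingCat.of k)) n (IsLocalRing.closedPoint k)} :
          Set (CohB1.ProjSpaceOver 1 (Spec (CommRingCat.of k)))) := by
        have h11 := (CycB.P1PtClosure.isClosedImmersion_sect
          (Spec (CommRingCat.of k)) n).base_closed.isClosed_range
        convert h11
        ext z
        constructor
        · rintro rfl
          exact ⟨_, rfl⟩
        · rintro ⟨w, rfl⟩
          rw [Subsingleton.elim w (IsLocalRing.closedPoint k)]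
          rfl
      have h12 := h10.closure_eq ▸ specializes_iff_mem_closure.1 h9
      apply c.isOpenEmbedding.injective
      rw [← Scheme.Hom.comp_apply, hd n]
      exact (Set.mem_singleton_iff.1 h12).symm
    exact hne ((h6 0).symm.trans (h6 1))
  · intro n
    rw [hh]
    exact delta_tr a _ hδ ξ
  · rw [hh]; exact hα
  · rw [hh]; exact hβ

end Main

end K923.ActGeo
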