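import Groth.Agent.CycB.P1PtClosure
import Groth.Agent.CycB.P1Chart
import Groth.Agent.Lefpen.H720.HomPt
import Mathlib.AlgebraicGeometry.AffineSpace

/-!
# A rational curve through two sections of an open subscheme of affine space
-/

set_option autoImplicit false
universe u
open CategoryTheory CategoryTheory.Limits AlgebraicGeometry

namespace K923.Curve

open Groth.Agent Groth.Agent.CycB.P1Chart Groth.Agent.VarietyB.ProjHom P1

/-- The linear form `T₀ + T₁`. -/
noncomputable abbrev ff : MvPolynomial (Fin (1 + 1)) R0.{u} := T 0 + T 1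

theorem ff_mem : ff.{u} ∈ grading 1 := Submodule.add_mem _ (X_mem 0) (X_mem 1)

/-- The coordinate ring of `D_+(T₀ + T₁)`. -/
abbrev A0 : Type u := HomogeneousLocalization.Away grading.{u} ff.{u}

/-- The open immersion. -/
noncomputable def c0 : Spec (CommRingCat.of A0.{u}) ⟶ CohB1.ProjSpace 1 R0.{u} :=
  Proj.awayι grading ff ff_mem one_pos

instance : IsOpenImmersion c0.{u} := inferInstanceAs (IsOpenImmersion (Proj.awayι _ _ _ _))

/-- The function `T₁ / (T₀ + T₁)`. -/
noncomputable def s0 : A0.{u} := HomogeneousLocalization.Away.mk grading ff_mem 1 (T 1) (by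
  simpa using X_mem 1)

/-- Evaluation. -/
noncomputable def ev (i : Fin (1 + 1)) : MvPolynomial (Fin (1 + 1)) R0.{u} →+* R0.{u} :=
  (MvPolynomial.aeval (Pi.single i (1 : R0.{u}) : Fin (1 + 1) → R0)).toRingHom

theorem ev_T (i j : Fin (1 + 1)) : ev.{u} i (T j) = if j = i then 1 else 0 := by
  simp [ev, P1.T, Pi.single_apply]

theorem ev_ff (i : Fin (1 + 1)) : ev.{u} i ff = 1 := by
  rw [map_add, ev_T, ev_T]
  fin_cases i <;> simp

theorem isUnit_ev (i : Fin (1 + 1)) : IsUnit (ev.{u} i ff) := by rw [ev_ff]; exact isUnit_one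

/-- The points `0` and `∞` in the chart. -/
noncomputable def e0 (i : Fin (1 + 1)) : Spec (CommRingCat.of R0.{u}) ⟶ Spec (CommRingCat.of A0.{u}) :=
  Spec.map (CommRingCat.ofHom (awayLift grading (ev i) ff (isUnit_ev i)))

theorem e0_c0 (i : Fin (1 + 1)) : e0.{u} i ≫ c0 = P1.point i := by
  have h : IsUnit (ev.{u} i (T i)) := by rw [ev_T, if_pos rfl]; exact isUnit_one
  exact Lefpen.H720.HomPt.SpecMap_awayLift_awayι grading (ev i) (isUnit_ev i) h ff_mem one_pos
    (X_mem i) one_pos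

theorem awayLift_s0 (i : Fin (1 + 1)) :
    awayLift grading (ev.{u} i) ff (isUnit_ev i) s0 = if 1 = i then 1 else 0 := by
  have h := awayLift_mk grading (ev.{u} i) (isUnit_ev i) ff_mem 1 (T 1) (by simpa using X_mem 1)
  rw [ev_ff, one_pow, mul_one, ev_T] at h
  exact h

section

variable (S : Scheme.{u})

/-- The open part of `P¹_S`. -/
noncomputable abbrev DD : Scheme.{u} := pullback c0.{u} (toZ S)

/-- Inclusion. -/
noncomputable abbrev cD : DD S ⟶ CohB1.ProjSpaceOver 1 S := pullback.snd c0.{u} (toZ S)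

/-- The function. -/
noncomputable def sD : Γ(DD S, ⊤) :=
  (pullback.fst c0.{u} (toZ S)).appTop ((Scheme.ΓSpecIso (CommRingCat.of A0.{u})).inv s0)

/-- The points. -/
noncomputable def dD (i : Fin (1 + 1)) : S ⟶ DD S :=
  pullback.lift (specULiftZIsTerminal.from S ≫ e0 i) (P1.sect S i) (by
    rw [sect_eq, lift_toZ, Category.assoc, e0_c0]
    rfl)

theorem dD_cD (i : Fin (1 + 1)) : dD S i ≫ cD S = P1.sect S i := pullback.lift_snd _ _ _

theorem dD_sD (i : Fin (1 + 1)) : (dD S i).appTop (sD S) = if 1 = i then 1 else 0 := by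
  have h1 : (dD S i).appTop (sD S) = (dD S i ≫ pullback.fst c0.{u} (toZ S)).appTop
      ((Scheme.ΓSpecIso (CommRingCat.of A0.{u})).inv s0) := by
    rw [Scheme.Hom.comp_appTop]
    rfl
  have h2 : dD S i ≫ pullback.fst c0.{u} (toZ S) = specULiftZIsTerminal.from S ≫ e0 i :=
    pullback.lift_fst _ _ _
  rw [h1, h2, Scheme.Hom.comp_appTop]
  have h3 : (e0.{u} i).appTop ((Scheme.ΓSpecIso (CommRingCat.of A0.{u})).inv s0) =
      (Scheme.ΓSpecIso (CommRingCat.of R0.{u})).inv (if 1 = i then 1 else 0) := by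
    have h4 := Scheme.ΓSpecIso_inv_naturality
      (CommRingCat.ofHom (awayLift grading (ev.{u} i) ff (isUnit_ev i)))
    have h5 := congrArg (fun φ => φ.hom s0) h4
    simp only [CommRingCat.hom_comp, RingHom.comp_apply, CommRingCat.hom_ofHom] at h5
    rw [awayLift_s0] at h5
    exact h5.symm
  rw [CommRingCat.comp_apply, h3]
  split_ifs <;> simp

theorem dD_ne (x x' : S) : dD S 0 x ≠ dD S 1 x' := by
  intro h
  have h1 : dD S 1 x' ∈ (DD S).basicOpen (sD S) := by
    have h2 : x' ∈ dD S 1 ⁻¹ᵁ (DD S).basicOpen (sD S) := by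
      rw [Scheme.preimage_basicOpen]
      have h3 : (dD S 1).app ⊤ (sD S) = 1 := (dD_sD S 1).trans (if_pos rfl)
      rw [h3, Scheme.basicOpen_of_isUnit _ isUnit_one]
      trivial
    exact h2
  rw [← h] at h1
  have h2 : x ∈ dD S 0 ⁻¹ᵁ (DD S).basicOpen (sD S) := h1
  rw [Scheme.preimage_basicOpen] at h2
  have h3 : (dD S 0).app ⊤ (sD S) = 0 := (dD_sD S 0).trans (if_neg (by decide))
  rw [h3, Scheme.basicOpen_zero] at h2
  exact h2

end

/-- A rational curve through two sections of an open subscheme of affine space. -/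
theorem exists_curve {S : Scheme.{u}} {n : Type u} (V : (𝔸(n; S)).Opens)
    (p : Fin (1 + 1) → (S ⟶ (V : Scheme.{u})))
    (hp : ∀ i, p i ≫ V.ι ≫ (𝔸(n; S) ↘ S) = 𝟙 S) :
    ∃ (D : Scheme.{u}) (c : D ⟶ CohB1.ProjSpaceOver 1 S) (_ : IsOpenImmersion c)
      (γ : D ⟶ (V : Scheme.{u})) (d : Fin (1 + 1) → (S ⟶ D)),
      γ ≫ V.ι ≫ (𝔸(n; S) ↘ S) = c ≫ CohB1.ProjSpaceOver.toBase 1 S ∧
      (∀ i, d i ≫ c = P1.sect S i) ∧ (∀ i, d i ≫ γ = p i) ∧ ∀ x x', d 0 x ≠ d 1 x' := by
  let q : DD S ⟶ S := cD S ≫ CohB1.ProjSpaceOver.toBase 1 S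
  let xx : Fin (1 + 1) → n → Γ(S, ⊤) := fun i j => (p i ≫ V.ι).appTop (AffineSpace.coord S j)
  let h : DD S ⟶ 𝔸(n; S) := AffineSpace.homOfVector q
    (fun j => q.appTop (xx 0 j) + sD S * (q.appTop (xx 1 j) - q.appTop (xx 0 j)))
  have hq : ∀ i, dD S i ≫ q = 𝟙 S := fun i => by
    rw [← Category.assoc, dD_cD, CycB.P1PtClosure.sect_toBase]
  have key : ∀ i, dD S i ≫ h = p i ≫ V.ι := by
    intro i
    apply AffineSpace.hom_ext
    · rw [Category.assoc, AffineSpace.homOfVector_over, hq, Category.assoc, hp]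
    · intro j
      have h1 : ∀ a, (dD S i).appTop (q.appTop a) = a := by
        intro a
        have h2 : (dD S i).appTop (q.appTop a) = (dD S i ≫ q).appTop a := by
          rw [Scheme.Hom.comp_appTop]; rfl
        rw [h2, hq]
        simp
      rw [Scheme.Hom.comp_appTop, CommRingCat.comp_apply, AffineSpace.homOfVector_appTop_coord,
        map_add, map_mul, map_sub, h1, h1, dD_sD]
      change _ = xx i j
      fin_cases i
      · simp
      · simp
  have hr : ∀ i, Set.range (dD S i) ⊆ Set.range (h ⁻¹ᵁ V).ι := by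
    rintro i _ ⟨x, rfl⟩
    rw [Scheme.Opens.range_ι]
    change h (dD S i x) ∈ V
    rw [← Scheme.Hom.comp_apply, key, Scheme.Hom.comp_apply]
    exact (p i x).2
  have hl : ∀ i, IsOpenImmersion.lift (h ⁻¹ᵁ V).ι (dD S i) (hr i) ≫ (h ⁻¹ᵁ V).ι = dD S i :=
    fun i => IsOpenImmersion.lift_fac _ _ _
  refine ⟨(h ⁻¹ᵁ V : (DD S).Opens), (h ⁻¹ᵁ V).ι ≫ cD S, inferInstance, h ∣_ V,
    fun i => IsOpenImmersion.lift (h ⁻¹ᵁ V).ι (dD S i) (hr i), ?_, ?_, ?_, ?_⟩
  · rw [← Category.assoc, morphismRestrict_ι, Category.assoc, AffineSpace.homOfVector_over,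
      Category.assoc]
  · intro i
    rw [← Category.assoc, hl, dD_cD]
  · intro i
    rw [← cancel_mono V.ι, Category.assoc, morphismRestrict_ι, ← Category.assoc, hl, key]
  · intro x x' e
    apply dD_ne S x x'
    rw [← hl 0, ← hl 1, Scheme.Hom.comp_apply, Scheme.Hom.comp_apply, e]

end K923.Curve
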