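import Groth.Agent.CycB.P1Fibre
import Groth.Agent.CycB.ImageInt
import Groth.Agent.CycA.MovGeo
import Groth.Agent.IntTh.K712.CycInt
import Mathlib.AlgebraicGeometry.Morphisms.Immersion

/-!
# Rational equivalence from a family over an open part of the projective line
-/

set_option autoImplicit false
universe u
open CategoryTheory CategoryTheory.Limits AlgebraicGeometry

namespace K923.RatFam

open Groth.Agent

/-- The scheme-theoretic closure `W` of a closed integral subscheme `Z` of an open `O` restricts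
to `Z` over `O`. -/
theorem isPullback_image {O Z P : Scheme.{u}} (o : O ⟶ P) [IsOpenImmersion o] [QuasiCompact o]
    [IsIntegral Z] (j : Z ⟶ O) [IsClosedImmersion j] :
    IsPullback (j ≫ o).toImage j (j ≫ o).imageι o := by
  have : IsImmersion (j ≫ o) := inferInstance
  have : QuasiCompact (j ≫ o) := inferInstance
  have hint : IsIntegral (j ≫ o).image := CycB.ImageInt.isIntegral_image _
  have w : (j ≫ o).toImage ≫ (j ≫ o).imageι = j ≫ o := (j ≫ o).toImage_imageι
  let c : Z ⟶ pullback (j ≫ o).imageι o := pullback.lift (j ≫ o).toImage j w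
  have hc2 : c ≫ pullback.snd _ _ = j := pullback.lift_snd _ _ _
  have hc1 : c ≫ pullback.fst _ _ = (j ≫ o).toImage := pullback.lift_fst _ _ _
  have h5 : IsClosedImmersion c := by
    have : IsClosedImmersion (c ≫ pullback.snd (j ≫ o).imageι o) := by rw [hc2]; infer_instance
    exact IsClosedImmersion.of_comp c (pullback.snd (j ≫ o).imageι o)
  have h6 : IsOpenImmersion c := by
    have : IsOpenImmersion (c ≫ pullback.fst (j ≫ o).imageι o) := by rw [hc1]; infer_instance
    exact IsOpenImmersion.of_comp c (pullback.fst (j ≫ o).imageι o)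
  have hne : Nonempty (pullback (j ≫ o).imageι o : Scheme.{u}) := ⟨c (genericPoint Z)⟩
  have h7 : IsIntegral (pullback (j ≫ o).imageι o) :=
    isIntegral_of_isOpenImmersion (pullback.fst (j ≫ o).imageι o)
  have h8 : Function.Surjective c := by
    have h9 : IsClopen (Set.range c) := ⟨c.isClosedEmbedding.isClosed_range,
      c.isOpenEmbedding.isOpen_range⟩
    rw [← Set.range_eq_univ]
    exact h9.eq_univ ⟨_, genericPoint Z, rfl⟩
  have h10 : Surjective c := ⟨h8⟩
  have h11 : IsIso c := (isIso_iff_isOpenImmersion_and_epi_base c).2 ⟨h6,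
    (TopCat.epi_iff_surjective _).2 h8⟩
  exact IsPullback.of_iso_pullback ⟨w⟩ (asIso c) hc1 hc2

/-- Rational equivalence from a family over an open part of `P^1_X` containing both sections. -/
theorem ratEquiv_of_family {X : Scheme.{u}} {δ : X → ℤ} (hX : Cyc.IsSetup X δ)
    {δP : ↥(CohB1.ProjSpaceOver 1 X) → ℤ}
    (hP : Cyc.DeltaCompat (CohB1.ProjSpaceOver.toBase 1 X) δP δ)
    {O Z : Scheme.{u}} (o : O ⟶ CohB1.ProjSpaceOver 1 X) [IsOpenImmersion o]
    [IsIntegral Z] (j : Z ⟶ O) [IsClosedImmersion j] (r : ℤ)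
    (hr : δP (o (j (genericPoint Z))) = r + 1)
    (s : Fin (1 + 1) → (X ⟶ O)) (hs : ∀ i, s i ≫ o = P1.sect X i)
    (hn : ∀ i, o (j (genericPoint Z)) ∉ Set.range ⇑(P1.sect X i))
    (Y : Fin (1 + 1) → Scheme.{u}) [∀ i, IsIntegral (Y i)] (y : ∀ i, Y i ⟶ Z) (h : ∀ i, Y i ⟶ X)
    (H : ∀ i, IsPullback (y i) (h i) j (s i)) (hδ : ∀ i, δ (h i (genericPoint (Y i))) = r)
    (α β : AlgebraicCycle X ℤ) (hα : ⇑α = Set.indicator {h 0 (genericPoint (Y 0))} 1)
    (hβ : ⇑β = Set.indicator {h 1 (genericPoint (Y 1))} 1) : Cyc.RatEquiv δ r α β := by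
  have hXn : IsLocallyNoetherian X := hX.1
  have : IsLocallyNoetherian (CohB1.ProjSpaceOver 1 X) :=
    LocallyOfFiniteType.isLocallyNoetherian (CohB1.ProjSpaceOver.toBase 1 X)
  have hint : IsIntegral (j ≫ o).image := CycB.ImageInt.isIntegral_image _
  have e1 : (j ≫ o).imageι (genericPoint (j ≫ o).image) = o (j (genericPoint Z)) := by
    rw [← CycB.ImageInt.toImage_genericPoint (j ≫ o), ← Scheme.Hom.comp_apply,
      (j ≫ o).toImage_imageι, Scheme.Hom.comp_apply]
  have key : ∀ i, IsPullback (y i ≫ (j ≫ o).toImage) (h i) (j ≫ o).imageι (P1.sect X i) := by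
    intro i
    have h1 := (H i).paste_horiz (isPullback_image o j)
    rwa [hs i] at h1
  have sub : ∀ i, Cyc.subschemeFun δ r (pullback.snd (j ≫ o).imageι (P1.sect X i)) =
      Set.indicator {h i (genericPoint (Y i))} 1 := by
    intro i
    have h2 : (key i).isoPullback.hom ≫ pullback.snd (j ≫ o).imageι (P1.sect X i) = h i :=
      (key i).isoPullback_hom_snd
    have h3 : IsIntegral (pullback (j ≫ o).imageι (P1.sect X i)) := by
      have : Nonempty (pullback (j ≫ o).imageι (P1.sect X i) : Scheme.{u}) :=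
        ⟨(key i).isoPullback.hom (genericPoint _)⟩
      exact isIntegral_of_isOpenImmersion (key i).isoPullback.inv
    have h4 : (pullback.snd (j ≫ o).imageι (P1.sect X i)) (genericPoint _) =
        h i (genericPoint (Y i)) := by
      rw [← h2, Scheme.Hom.comp_apply]
      congr 1
      exact ((genericPoint_eq_of_isOpenImmersion (key i).isoPullback.hom)).symm
    rw [← h4]
    exact K712.CycInt.subschemeFun_integral hX.2.2 _ (by rw [h4]; exact hδ i)
  refine CycB.P1Fibre.ratEquiv_fibre hX δP hP r (j ≫ o).image (j ≫ o).imageι (by rw [e1]; exact hr)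
    (by rw [e1]; exact hn 0) (by rw [e1]; exact hn 1) α β ?_ ?_
  · rw [hα, sub]
  · rw [hβ, sub]

end K923.RatFam
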