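import Groth.Agent.Cyc.K923.ActGeo
import Groth.Agent.Cyc.K923.Curve
import Groth.Agent.S16121
import Groth.Agent.Sga3B.CellDim

/-!
# Translates by points of a connected affine group are rationally equivalent
-/

set_option autoImplicit false
universe u
open CategoryTheory CategoryTheory.Limits MonoidalCategory CartesianMonoidalCategory MonObj GrpObj
  AlgebraicGeometry

namespace K923.Transl

open Groth.Agent K923.ActFam K923.ActGeo

/-- The regular action. -/
noncomputable def reg {S : Scheme.{u}} (G : Over S) [GrpObj G] : AlgGrp.Action G G where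
  act := μ[G]
  one_act := MonObj.one_mul G
  mul_act := MonObj.mul_assoc G

theorem comp_tr_reg {S : Scheme.{u}} {G : Over S} [GrpObj G] (g v : 𝟙_ (Over S) ⟶ G) :
    v ≫ tr (reg G) g = g * v := by
  rw [comp_tr]
  unfold act' reg
  rw [Hom.mul_def]
  congr 2

theorem comp_tr_left {S : Scheme.{u}} {G X : Over S} [GrpObj G] (a : AlgGrp.Action G X)
    (g h : 𝟙_ (Over S) ⟶ G) (x : X.left) :
    (tr a g).left ((tr a h).left x) = (tr a (g * h)).left x := by
  rw [← tr_tr, Over.comp_left, Scheme.Hom.comp_apply]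

theorem tr_one_left {S : Scheme.{u}} {G X : Over S} [GrpObj G] (a : AlgGrp.Action G X)
    (x : X.left) : (tr a (1 : 𝟙_ (Over S) ⟶ G)).left x = x := by
  rw [tr_one]
  rfl

/-- Every point is a quotient of two points in a given nonempty open subscheme. -/
theorem exists_points {k : Type u} [Field k] [IsAlgClosed k] (G : Over (Spec (CommRingCat.of k)))
    [GrpObj G] [IsIntegral G.left] [LocallyOfFiniteType G.hom]
    (g : 𝟙_ (Over (Spec (CommRingCat.of k))) ⟶ G) (U : G.left.Opens)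
    (hU : (U : Set G.left).Nonempty) :
    ∃ v : 𝟙_ (Over (Spec (CommRingCat.of k))) ⟶ G, v.left (IsLocalRing.closedPoint k) ∈ U ∧
      (g * v).left (IsLocalRing.closedPoint k) ∈ U := by
  have : JacobsonSpace G.left := LocallyOfFiniteType.jacobsonSpace G.hom
  let W : G.left.Opens := U ⊓ (tr (reg G) g).left ⁻¹ᵁ U
  have hW : (W : Set G.left).Nonempty := by
    obtain ⟨x, hx⟩ := hU
    have h1 : ((tr (reg G) g).left ⁻¹ᵁ U : Set G.left).Nonempty := by
      refine ⟨(tr (reg G) g⁻¹).left x, ?_⟩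
      change (tr (reg G) g).left ((tr (reg G) g⁻¹).left x) ∈ U
      rw [comp_tr_left, mul_inv_cancel, tr_one_left]
      exact hx
    exact nonempty_preirreducible_inter U.2 ((tr (reg G) g).left ⁻¹ᵁ U).2 ⟨x, hx⟩ h1
  obtain ⟨w, hw, hwc⟩ := nonempty_inter_closedPoints hW W.2.isLocallyClosed
  let v : 𝟙_ (Over (Spec (CommRingCat.of k))) ⟶ G :=
    Over.homMk (pointOfClosedPoint G.hom w hwc) (pointOfClosedPoint_comp G.hom w hwc)
  have hv : v.left (IsLocalRing.closedPoint k) = w := pointOfClosedPoint_apply G.hom w hwc _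
  refine ⟨v, by rw [hv]; exact hw.1, ?_⟩
  rw [← comp_tr_reg, Over.comp_left, Scheme.Hom.comp_apply, hv]
  exact hw.2

theorem main (k : Type u) [Field k] [IsAlgClosed k]
    (G X : Over (Spec (CommRingCat.of k))) [GrpObj G] [IsAffine G.left] [Smooth G.hom]
    [ConnectedSpace ↥G.left] [IsIntegral X.left] [IsSeparated X.hom] [LocallyOfFiniteType X.hom]
    [QuasiCompact X.hom] (a : AlgGrp.Action G X)
    (g : 𝟙_ (Over (Spec (CommRingCat.of k))) ⟶ G)
    (δ : ↥X.left → ℤ) (hX : Cyc.IsSetup X.left δ) (hδ : Cyc.DeltaCompat X.hom δ (fun _ => 0))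
    (ξ : ↥X.left) (α β : AlgebraicCycle X.left ℤ)
    (hα : ⇑α = Set.indicator {ξ} 1) (hβ : ⇑β = Set.indicator {(tr a g).left ξ} 1) :
    Cyc.RatEquiv δ (δ ξ) α β := by
  have hint : IsIntegral G.left := Sga3B.CellDim.isIntegral_of_connected_grp G
  obtain ⟨U, n, V, e, hU, he⟩ := S16121.result k G
  obtain ⟨v, hv, hgv⟩ := exists_points G g U hU
  let w : Fin (1 + 1) → (𝟙_ (Over (Spec (CommRingCat.of k))) ⟶ G) := ![v, g * v]
  have hw : ∀ i, (w i).left (IsLocalRing.closedPoint k) ∈ U := by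
    intro i
    fin_cases i
    · exact hv
    · exact hgv
  have hsub : Subsingleton (Spec (CommRingCat.of k)) :=
    inferInstanceAs (Subsingleton (PrimeSpectrum k))
  have hr : ∀ i, Set.range (w i).left ⊆ Set.range U.ι := by
    rintro i _ ⟨x, rfl⟩
    rw [Scheme.Opens.range_ι, hsub.elim x (IsLocalRing.closedPoint k)]
    exact hw i
  let p : Fin (1 + 1) → (Spec (CommRingCat.of k) ⟶ (V : Scheme.{u})) := fun i =>
    IsOpenImmersion.lift U.ι (w i).left (hr i) ≫ e.hom
  have hp : ∀ i, p i ≫ V.ι ≫ (𝔸(ULift.{u} (Fin n); Spec (CommRingCat.of k)) ↘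
      Spec (CommRingCat.of k)) = 𝟙 _ := by
    intro i
    rw [Category.assoc, he, ← Category.assoc, IsOpenImmersion.lift_fac]
    exact Over.w (w i)
  obtain ⟨D₀, c, hc, gm₀, d₀, h1, h2, h3, h4⟩ := Curve.exists_curve V p hp
  let D : Over (Spec (CommRingCat.of k)) := Over.mk (c ≫ CohB1.ProjSpaceOver.toBase 1 _)
  let gm : D ⟶ G := Over.homMk (gm₀ ≫ e.inv ≫ U.ι) (by
    rw [Category.assoc, Category.assoc, ← he, Iso.inv_hom_id_assoc]
    exact h1)
  let d : Fin (1 + 1) → (𝟙_ (Over (Spec (CommRingCat.of k))) ⟶ D) := fun i =>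
    Over.homMk (d₀ i) (by
      change d₀ i ≫ c ≫ _ = 𝟙 _
      rw [← Category.assoc, h2, CycB.P1PtClosure.sect_toBase])
  have hdgm : ∀ i, d i ≫ gm = w i := by
    intro i
    ext1
    change d₀ i ≫ gm₀ ≫ e.inv ≫ U.ι = (w i).left
    rw [← Category.assoc, h3]
    change (IsOpenImmersion.lift U.ι (w i).left (hr i) ≫ e.hom) ≫ e.inv ≫ U.ι = _
    rw [Category.assoc, Iso.hom_inv_id_assoc, IsOpenImmersion.lift_fac]
  have e1 : (tr a (d 0 ≫ gm)).left ((tr a v⁻¹).left ξ) = ξ := by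
    rw [hdgm]
    change (tr a v).left ((tr a v⁻¹).left ξ) = ξ
    rw [comp_tr_left, mul_inv_cancel, tr_one_left]
  have e2 : (tr a (d 1 ≫ gm)).left ((tr a v⁻¹).left ξ) = (tr a g).left ξ := by
    rw [hdgm]
    change (tr a (g * v)).left ((tr a v⁻¹).left ξ) = _
    rw [comp_tr_left, mul_inv_cancel_right]
  have e3 : δ ((tr a v⁻¹).left ξ) = δ ξ := delta_tr a v⁻¹ hδ ξ
  rw [← e3]
  exact ActGeo.ratEquiv a c rfl gm d h2 (h4 _ _) hX hδ ((tr a v⁻¹).left ξ) α β
    (by rw [e1]; exact hα) (by rw [e2]; exact hβ)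

end K923.Transl
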